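import Mathlib.CategoryTheory.EffectiveEpi.Basic
import Mathlib.CategoryTheory.MorphismProperty.Limits
import Mathlib.CategoryTheory.Limits.Shapes.Pullback.Pasting
import Mathlib.CategoryTheory.Limits.Shapes.StrongEpi

set_option autoImplicit false

namespace Groth.Agent.DescCatLib

open CategoryTheory Limits Category

universe v u

variable {C : Type u} [Category.{v} C]

/-- Universally effective epimorphisms. -/
abbrev UEE : MorphismProperty C :=
  MorphismProperty.universally (fun (A B : C) (p : A ⟶ B) => EffectiveEpi p)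

/-- Universally epimorphisms. -/
abbrev UE : MorphismProperty C :=
  MorphismProperty.universally (MorphismProperty.epimorphisms C)

lemma uee_le_ue {X Y : C} {f : X ⟶ Y} (hf : UEE f) : UE f := by
  intro X' Y' a b f' H
  have : EffectiveEpi f' := hf a b f' H
  exact (inferInstanceAs (Epi f'))

lemma uee_effectiveEpi {X Y : C} {f : X ⟶ Y} (hf : UEE f) : EffectiveEpi f :=
  MorphismProperty.universally_le _ _ hf

lemma ue_epi_fst [HasPullbacks C] {X Y Z : C} {f : X ⟶ Y} (hf : UE f) (g : Z ⟶ Y) :
    Epi (pullback.fst g f) :=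
  hf (pullback.snd g f) g (pullback.fst g f) (IsPullback.of_hasPullback g f)

/-- Descent along a universally effective epimorphism of a map to `W`. -/
lemma exists_desc {X Y W : C} (f : X ⟶ Y) [EffectiveEpi f] (e : X ⟶ W)
    (h : ∀ {Z : C} (a b : Z ⟶ X), a ≫ f = b ≫ f → a ≫ e = b ≫ e) : ∃ d : Y ⟶ W, f ≫ d = e :=
  ⟨_, EffectiveEpi.fac f e h⟩

variable [HasPullbacks C]

lemma effectiveEpi_comp {U T S : C} (v : U ⟶ T) (u : T ⟶ S) [EffectiveEpi u] [EffectiveEpi v]
    (hv : UE v) : EffectiveEpi (v ≫ u) := by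
  have key : ∀ {W : C} (e : U ⟶ W),
      (∀ {Z : C} (a b : Z ⟶ U), a ≫ v ≫ u = b ≫ v ≫ u → a ≫ e = b ≫ e) →
      ∃ d : S ⟶ W, (v ≫ u) ≫ d = e := by
    intro W e he
    obtain ⟨e', he'⟩ := exists_desc v e fun a b hab => he a b (by rw [reassoc_of% hab])
    obtain ⟨d, hd⟩ := exists_desc u e' fun {R} a b hab => by
      have := ue_epi_fst hv a
      have := ue_epi_fst hv (pullback.fst a v ≫ b)
      rw [← cancel_epi (pullback.fst a v), ← cancel_epi (pullback.fst (pullback.fst a v ≫ b) v),
        pullback.condition_assoc, reassoc_of% (pullback.condition (f := pullback.fst a v ≫ b) (g := v)),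
        he']
      rw [← assoc]
      exact he _ _ (by simp only [assoc, ← pullback.condition_assoc, hab])
    exact ⟨d, by rw [assoc, hd, he']⟩
  exact ⟨⟨{
    desc := fun e h => (key e (fun a b hab => h a b hab)).choose
    fac := fun e h => (key e (fun a b hab => h a b hab)).choose_spec
    uniq := fun e h m hm => by
      rw [← cancel_epi (v ≫ u), hm, (key e (fun a b hab => h a b hab)).choose_spec] }⟩⟩

lemma uee_comp {U T S : C} {v : U ⟶ T} {u : T ⟶ S} (hu : UEE u) (hv : UEE v) : UEE (v ≫ u) := by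
  intro X' Y' i₁ i₂ f' H
  have w : f' ≫ i₂ = (i₁ ≫ v) ≫ u := H.w.trans (Category.assoc _ _ _).symm
  have h := pullback.lift_fst _ _ w
  rw [← h] at H ⊢
  have hb : UEE (pullback.fst i₂ u) := MorphismProperty.of_isPullback
    (IsPullback.of_hasPullback i₂ u).flip hu
  have ha : UEE (pullback.lift f' (i₁ ≫ v) w) :=
    MorphismProperty.of_isPullback
      (H.of_right (pullback.lift_snd _ _ _) (IsPullback.of_hasPullback i₂ u)).flip hv
  have := uee_effectiveEpi ha
  have := uee_effectiveEpi hb
  exact effectiveEpi_comp _ _ (uee_le_ue ha)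

lemma effectiveEpi_of_comp {U T S : C} (v : U ⟶ T) (u : T ⟶ S) [EffectiveEpi (v ≫ u)]
    (h : UE (v ≫ u)) : EffectiveEpi u := by
  have : Epi u := epi_of_epi v u
  have key : ∀ {W : C} (e : T ⟶ W),
      (∀ {Z : C} (a b : Z ⟶ T), a ≫ u = b ≫ u → a ≫ e = b ≫ e) → ∃ d : S ⟶ W, u ≫ d = e := by
    intro W e he
    obtain ⟨d, hd⟩ := exists_desc (v ≫ u) (v ≫ e) fun a b hab => by
      simpa using he (a ≫ v) (b ≫ v) (by simpa using hab)
    refine ⟨d, ?_⟩
    have := ue_epi_fst h u
    rw [← cancel_epi (pullback.fst u (v ≫ u)), pullback.condition_assoc, hd]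
    simpa using (he _ (pullback.snd u (v ≫ u) ≫ v) (by rw [pullback.condition, assoc])).symm
  exact ⟨⟨{
    desc := fun e h => (key e (fun a b hab => h a b hab)).choose
    fac := fun e h => (key e (fun a b hab => h a b hab)).choose_spec
    uniq := fun e h m hm => by
      rw [← cancel_epi u, hm, (key e (fun a b hab => h a b hab)).choose_spec] }⟩⟩

lemma uee_of_comp {U T S : C} {v : U ⟶ T} {u : T ⟶ S} (h : UEE (v ≫ u)) : UEE u := by
  intro X' Y' i₁ i₂ f' H
  have hp := (IsPullback.of_hasPullback i₁ v).flip.paste_vert H.flip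
  have : UEE (pullback.fst i₁ v ≫ f') := MorphismProperty.of_isPullback hp h
  have := uee_effectiveEpi this
  exact effectiveEpi_of_comp (pullback.fst i₁ v) f' (uee_le_ue ‹UEE (pullback.fst i₁ v ≫ f')›)

end Groth.Agent.DescCatLib
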